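import Groth.Agent.HilbNum.K822.PolyDiff
import Groth.Agent.Vanish.K910.Growth
import Groth.Agent.CohqA.ProjDim
import Groth.Agent.VarietyB.ProjSpaceProper
import Groth.Agent.Ega3B.ProjAmple
import Groth.Agent.Ega3B.ProjFrame

/-!
# The degree of the Hilbert polynomial of a coherent module on projective space
-/

set_option autoImplicit false
universe u
open CategoryTheory CategoryTheory.Limits AlgebraicGeometry

namespace K822.HilbMain

open Groth.Agent Groth.Agent.Fga Groth.Agent.Fga.PicMon Groth.Agent.Fga.RegSec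
open fwdDiff

theorem zero_le_krullDim {W : Type*} [TopologicalSpace W] [Nonempty W] :
    0 ≤ topologicalKrullDim W := by
  obtain ⟨x⟩ := ‹Nonempty W›
  have : Nonempty (TopologicalSpace.IrreducibleCloseds W) :=
    ⟨⟨closure {x}, isIrreducible_singleton.closure, isClosed_closure⟩⟩
  exact Order.krullDim_nonneg

theorem exists_nat_of_le {d : WithBot ℕ∞} {n : ℕ} (h0 : 0 ≤ d) (h : d ≤ n) : ∃ r : ℕ, d = r := by
  induction d using WithBot.recBotCoe with
  | bot => exact absurd h0 (by simp)
  | coe m =>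
    have h1 : m ≤ n := by exact_mod_cast h
    obtain ⟨r, hr⟩ := ENat.ne_top_iff_exists.1 (ne_top_of_le_ne_top (ENat.natCast_ne_top n) h1)
    exact ⟨r, by rw [← hr]; rfl⟩

/-- Degree of a Hilbert polynomial. -/
theorem natDegree_eq {k : Type u} [Field k] {X : Scheme.{u}} [X.Over (Spec (CommRingCat.of k))]
    [IsProper (X ↘ Spec (CommRingCat.of k))] (d : ℕ) (hd : topologicalKrullDim X ≤ d)
    {A A' : X.Modules} (hA : CohB1.IsAmple A) (hAA' : mc A' * mc A = 1) {F : X.Modules}
    (hF : Coh.IsCoh F) (r : ℕ) (hr : topologicalKrullDim (CohB1.support F) = r) (P : Polynomial ℚ)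
    (hP : ∀ q : ℕ, ((FGA.eulerCharLE k X (CohB1.tensorMod (CohB1.tensorPow A q) F) d : ℤ) : ℚ) =
      P.eval (q : ℚ)) : P.natDegree = r := by
  obtain ⟨e⟩ : Nonempty (CohB1.tensorMod A A' ≅ Coh.structureModule X) :=
    (mc_eq_iff _ _).1 (by rw [mc_tensor, mul_comm, hAA', mc_one])
  have hA' : PicF.IsInvertible A' := IntAdd.isInvertible_of_tensor e
  have hcoh : ∀ q, Coh.IsCoh (CohB1.tensorMod (CohB1.tensorPow A q) F) := fun q =>
    SnapperTwist.isCoh_tensor' (Fdesc.LocGen.isInvertible_tensorPow hA.1 q) hF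
  have hsup : ∀ q, topologicalKrullDim (CohB1.support (CohB1.tensorMod (CohB1.tensorPow A q) F)) = r := by
    intro q
    rw [PosMain.support_tensor X (Fdesc.LocGen.isInvertible_tensorPow hA.1 q)
      (Fdesc.LocGen.isInvertible_tensorPow hA' q) (by
        rw [mc_tensorPow, mc_tensorPow, ← mul_pow, mul_comm, hAA', one_pow])]
    exact hr
  refine PolyDiff.natDegree_eq P _ hP r ?_ ?_
  · rw [K910.Growth.fwdDiff_euler k d hAA']
    exact (PosMain.intNum_pos k X d hd (fun _ => A) _ (fun _ => hA) (fun _ => ⟨e⟩) _ (hcoh _)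
      (hsup _)).ne'
  · intro s hs
    rw [K910.Growth.fwdDiff_euler k d hAA']
    refine S3231.result k X d hd _ (fun _ => hA') _ (hcoh _) ?_
    rw [hsup]
    exact_mod_cast hs

variable (n : ℕ) (k : Type u) [Field k]

theorem nonempty_mul (i j : ℤ) :
    Nonempty (CohB1.tensorMod (Twist.twistProjSpace n k i) (Twist.twistProjSpace n k j) ≅
      Twist.twistProjSpace n k (i + j)) := by
  have h := Ega3B.ProjFrame.coveredByOne n k
  have h1 := Ega2.TwistInv.isIso_mulHom h (rfl : i + j = i + j)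
  exact ⟨@asIso _ _ _ _ (Ega2.TwistMul.mulHom (CohB1.polyGrading n k) (rfl : i + j = i + j)) h1⟩

theorem mc_mul (i j : ℤ) : mc (Twist.twistProjSpace n k i) * mc (Twist.twistProjSpace n k j) =
    mc (Twist.twistProjSpace n k (i + j)) := by
  rw [← mc_tensor]
  exact (mc_eq_iff _ _).2 (nonempty_mul n k i j)

theorem mc_zero : mc (Twist.twistProjSpace n k 0) = 1 := by
  rw [← mc_one]
  obtain ⟨e⟩ := Ega2.TwistInv.nonempty_unit_iso (CohB1.polyGrading n k)
  exact (mc_eq_iff _ _).2 ⟨e.symm⟩

theorem mc_pow (i : ℤ) (e : ℕ) : mc (Twist.twistProjSpace n k i) ^ e =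
    mc (Twist.twistProjSpace n k (e * i)) := by
  induction e with
  | zero => rw [pow_zero, Nat.cast_zero, zero_mul, mc_zero]
  | succ e ih => rw [pow_succ, ih, mc_mul]; congr 2; push_cast; ring

theorem isAmple_one : CohB1.IsAmple (Twist.twistProjSpace n k 1) := by
  have hp : IsProper (CohB1.ProjSpace.toSpec n k) := VarietyB.ProjSpaceProper.isProper_toSpec n k
  have hc : CompactSpace (CohB1.ProjSpace n k) :=
    QuasiCompact.compactSpace_of_compactSpace (CohB1.ProjSpace.toSpec n k)
  have : CompactSpace (Proj (CohB1.polyGrading n k)) := hc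
  refine Groth.Agent.Ega3B.ProjAmple.isAmple_twist (𝒜 := CohB1.polyGrading n k) (e := 1) one_pos ?_
  intro x
  obtain ⟨j, hj⟩ := Groth.Agent.PerfB.ProjSpaceCover.exists_mem_basicOpen_X n k x
  exact ⟨⟨MvPolynomial.X j, MvPolynomial.isHomogeneous_X _ _⟩, hj⟩

theorem main {F : (CohB1.ProjSpace n k).Modules} (hF : Coh.IsCoh F) (hF0 : ¬ IsZero F)
    (P : Polynomial ℚ)
    (hP : ∀ m : ℤ,
      ((Finset.range (n + 1)).sum fun j => (-1 : ℚ) ^ j *
        (Module.finrank k (Coh.HH (CohB1.ProjSpace n k)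
          (CohB1.tensorMod F (Twist.twistProjSpace n k m)) j) : ℚ)) = P.eval (m : ℚ)) :
    topologicalKrullDim ↥(CohB1.support F) = (P.natDegree : WithBot ℕ∞) := by
  have : IsProper (CohB1.ProjSpace n k ↘ Spec (CommRingCat.of k)) :=
    VarietyB.ProjSpaceProper.isProper_toSpec n k
  have hd : topologicalKrullDim (CohB1.ProjSpace n k) ≤ n := CohqA.ProjDim.topologicalKrullDim_le k n
  -- the dimension of the support is a natural number
  obtain ⟨r, hr⟩ : ∃ r : ℕ, topologicalKrullDim (CohB1.support F) = r := by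
    have h1 : topologicalKrullDim (CohB1.support F) ≤ n :=
      (topologicalKrullDim_subspace_le _ _).trans hd
    have h2 : (CohB1.support F).Nonempty := by
      rw [Set.nonempty_iff_ne_empty]
      exact fun h => hF0 (CohqB.DevSupport.isZero_of_support_eq_empty h)
    have := h2.to_subtype
    exact exists_nat_of_le zero_le_krullDim h1
  rw [hr]
  have hAA' : mc (Twist.twistProjSpace n k (-1)) * mc (Twist.twistProjSpace n k 1) = 1 := by
    rw [mc_mul, ← mc_zero n k]
    rfl
  refine congrArg (fun t : ℕ => (t : WithBot ℕ∞))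
    (natDegree_eq (k := k) n hd (isAmple_one n k) hAA' hF r hr P (fun q => ?_)).symm
  have h3 : mc (CohB1.tensorMod (CohB1.tensorPow (Twist.twistProjSpace n k 1) q) F) =
      mc (CohB1.tensorMod F (Twist.twistProjSpace n k q)) := by
    rw [mc_tensor, mc_tensor, mc_tensorPow, mc_pow, mul_one, mul_comm]
  obtain ⟨e⟩ := (mc_eq_iff _ _).1 h3
  rw [euler_iso k _ e n, FGA.eulerCharLE]
  have h4 := hP q
  push_cast at h4 ⊢
  exact h4

end K822.HilbMain
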