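import Mathlib.Algebra.Group.ForwardDiff
import Mathlib.Algebra.Polynomial.Degree.Defs

/-!
# The degree of a polynomial from its iterated differences at `0`
-/

set_option autoImplicit false

open Polynomial fwdDiff

namespace K822.PolyDiff

theorem cast_fwdDiff (u : ℕ → ℤ) (P : ℚ[X]) (h : ∀ q : ℕ, (u q : ℚ) = P.eval (q : ℚ)) (r q : ℕ) :
    ((Δ_[1]^[r] u q : ℤ) : ℚ) = Δ_[1]^[r] (fun x => P.eval x) (q : ℚ) := by
  induction r generalizing q with
  | zero => exact h q
  | succ r ih =>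
    rw [Function.iterate_succ_apply', Function.iterate_succ_apply', fwdDiff, fwdDiff]
    push_cast
    rw [ih, ih]
    push_cast
    rfl

theorem natDegree_eq (P : ℚ[X]) (u : ℕ → ℤ) (h : ∀ q : ℕ, (u q : ℚ) = P.eval (q : ℚ)) (r : ℕ)
    (hr : Δ_[1]^[r] u 0 ≠ 0) (hs : ∀ s, r < s → Δ_[1]^[s] u 0 = 0) : P.natDegree = r := by
  apply le_antisymm
  · by_contra hlt
    push Not at hlt
    have h1 := hs _ hlt
    have h2 := cast_fwdDiff u P h P.natDegree 0
    rw [h1] at h2
    have h3 := congrFun P.fwdDiff_iter_degree_eq_factorial ((0 : ℕ) : ℚ)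
    have h4 : (P.leadingCoeff * (P.natDegree.factorial : ℚ)) = 0 := by
      have h5 : (Δ_[1]^[P.natDegree] P.eval) ((0 : ℕ) : ℚ) = 0 := by
        rw [← h2]; norm_num
      rw [h5] at h3
      simpa using h3.symm
    have h6 : P.leadingCoeff = 0 := by
      rcases mul_eq_zero.1 h4 with h7 | h7
      · exact h7
      · exact absurd h7 (by exact_mod_cast Nat.factorial_ne_zero _)
    rw [leadingCoeff_eq_zero] at h6
    subst h6
    simp at hlt
  · by_contra hlt
    push Not at hlt
    have h1 := cast_fwdDiff u P h r 0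
    have h2 := congrFun (Polynomial.fwdDiff_iter_eq_zero_of_degree_lt hlt) ((0 : ℕ) : ℚ)
    apply hr
    have h3 : ((Δ_[1]^[r] u 0 : ℤ) : ℚ) = 0 := h1.trans h2
    exact_mod_cast h3

end K822.PolyDiff
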